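import Mathlib.Algebra.Polynomial.Derivative
import Mathlib.RingTheory.Derivation.MapCoeffs
import Mathlib.Algebra.CharP.Lemmas
import Mathlib.Data.Nat.Choose.Dvd
import Mathlib.Tactic

/-!
# Iterates of derivations in characteristic `p`

* `leibniz_iterate`: the Leibniz formula for the iterates of an additive map satisfying the Leibniz rule;
* `iterPow`: the `p`-th iterate of a derivation in characteristic `p`, as a derivation;
* `pth_iterate_smul`: Hochschild's formula, in the weak form
  `(f ∂)^p = c • ∂ + f ^ p • ∂^p` with one coefficient `c` for all `θ`-semilinear operators `∂`.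
-/

universe v u w

namespace Groth.Agent.H44Deriv

open Finset

section Leibniz

variable {B : Type u} [CommRing B]

theorem leibniz_iterate (D : B →+ B) (h : ∀ a b, D (a * b) = a * D b + D a * b) (n : ℕ) (a b : B) :
    (⇑D)^[n] (a * b) = ∑ ij ∈ antidiagonal n, (n.choose ij.1 : B) * ((⇑D)^[ij.1] a * (⇑D)^[ij.2] b) := by
  induction n with
  | zero => simp
  | succ n ih =>
    rw [Finset.sum_antidiagonal_choose_succ_mul (fun i j => (⇑D)^[i] a * (⇑D)^[j] b) n,
      Function.iterate_succ_apply', ih, map_sum, ← Finset.sum_add_distrib]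
    refine Finset.sum_congr rfl fun ij hij => ?_
    have : D (n.choose ij.1 : B) = 0 := by
      have h1 : D 1 = 0 := by simpa using h 1 1
      rw [← nsmul_one, map_nsmul, h1, smul_zero]
    rw [h, this, zero_mul, add_zero, h, Function.iterate_succ_apply', Function.iterate_succ_apply',
      Nat.choose_symm_of_eq_add (mem_antidiagonal.1 hij).symm]
    ring

theorem leibniz_iterate_prime (D : B →+ B) (h : ∀ a b, D (a * b) = a * D b + D a * b) (p : ℕ) [Fact p.Prime]
    [CharP B p] (a b : B) : (⇑D)^[p] (a * b) = a * (⇑D)^[p] b + (⇑D)^[p] a * b := by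
  have hp : p.Prime := Fact.out
  rw [leibniz_iterate D h p a b]
  rw [show a * (⇑D)^[p] b + (⇑D)^[p] a * b =
      ∑ ij ∈ ({(0, p), (p, 0)} : Finset (ℕ × ℕ)), (p.choose ij.1 : B) * ((⇑D)^[ij.1] a * (⇑D)^[ij.2] b) by
    rw [Finset.sum_pair (by simp [hp.ne_zero.symm])]; simp]
  refine (Finset.sum_subset ?_ fun ij hij hne => ?_).symm
  · intro x hx
    simp only [Finset.mem_insert, Finset.mem_singleton] at hx
    rcases hx with rfl | rfl <;> simp
  · simp only [mem_antidiagonal] at hij
    obtain ⟨i, j⟩ := ij
    simp only [Finset.mem_insert, Finset.mem_singleton, Prod.mk.injEq, not_or] at hne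
    have : (p.choose i : B) = 0 :=
      (CharP.cast_eq_zero_iff B p _).2 (hp.dvd_choose_self (by dsimp at hij; omega) (by dsimp at hij; omega))
    rw [this, zero_mul]

variable {A : Type v} [CommRing A] [Algebra A B]

/-- The `p`-th iterate of a derivation in characteristic `p`. -/
def iterPow (p : ℕ) [Fact p.Prime] [CharP B p] (D : Derivation A B B) : Derivation A B B :=
  Derivation.mk' (D.toLinearMap ^ p) fun a b => by
    simp only [Module.End.pow_apply, smul_eq_mul]
    have := leibniz_iterate_prime D.toLinearMap.toAddMonoidHom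
      (fun a b => by simp [mul_comm (D a) b]) p a b
    simpa [mul_comm ((⇑D)^[p] a) b] using this

theorem iterPow_apply (p : ℕ) [Fact p.Prime] [CharP B p] (D : Derivation A B B) (b : B) :
    iterPow p D b = (⇑D)^[p] b := by
  simp [iterPow, Module.End.pow_apply]

end Leibniz

section Hochschild

variable {A : Type v} {B : Type u} [CommRing A] [CommRing B] [Algebra A B]

/-- The coefficients of `(f θ)^n` in powers of `θ`. -/
def coef (θ : Derivation A B B) (f : B) : ℕ → ℕ → B
  | 0, 0 => 1
  | 0, _ + 1 => 0
  | n + 1, 0 => f * θ (coef θ f n 0)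
  | n + 1, i + 1 => f * θ (coef θ f n (i + 1)) + f * coef θ f n i

theorem coef_eq_zero (θ : Derivation A B B) (f : B) : ∀ {n i : ℕ}, n < i → coef θ f n i = 0
  | 0, _ + 1, _ => rfl
  | n + 1, i + 1, h => by
    rw [coef, coef_eq_zero θ f (show n < i + 1 by omega), coef_eq_zero θ f (show n < i by omega)]
    simp

theorem coef_succ_zero (θ : Derivation A B B) (f : B) : ∀ n : ℕ, coef θ f (n + 1) 0 = 0
  | 0 => by simp [coef]
  | n + 1 => by rw [coef, coef_succ_zero θ f n, map_zero, mul_zero]

theorem coef_self (θ : Derivation A B B) (f : B) : ∀ n : ℕ, coef θ f n n = f ^ n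
  | 0 => by simp [coef]
  | n + 1 => by rw [coef, coef_eq_zero θ f (show n < n + 1 by omega), coef_self θ f n, map_zero, pow_succ']; simp

theorem iterate_smul_eq_sum {M : Type w} [AddCommGroup M] [Module B M] (θ : Derivation A B B) (f : B)
    (T : M →+ M) (hT : ∀ (b : B) (x : M), T (b • x) = b • T x + θ b • x) (n : ℕ) (x : M) :
    (fun y => f • T y)^[n] x = ∑ i ∈ range (n + 1), coef θ f n i • (⇑T)^[i] x := by
  induction n with
  | zero => simp [coef]
  | succ n ih =>
    have h1 : ∑ i ∈ range (n + 1), (f * θ (coef θ f n (i + 1))) • (⇑T)^[i + 1] x + (f * θ (coef θ f n 0)) • x =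
        ∑ i ∈ range (n + 1), (f * θ (coef θ f n i)) • (⇑T)^[i] x := by
      have := Finset.sum_range_succ' (fun i => (f * θ (coef θ f n i)) • (⇑T)^[i] x) (n + 1)
      simp only [Function.iterate_zero_apply] at this
      rw [← this, Finset.sum_range_succ, coef_eq_zero θ f (Nat.lt_succ_self n)]
      simp
    rw [Function.iterate_succ_apply', ih, map_sum, Finset.smul_sum]
    simp only [hT, smul_add, smul_smul, ← Function.iterate_succ_apply' (⇑T)]
    rw [Finset.sum_range_succ' (fun i => coef θ f (n + 1) i • (⇑T)^[i] x) (n + 1)]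
    simp only [coef, add_smul, Finset.sum_add_distrib, Function.iterate_zero_apply]
    rw [← h1]
    abel

open Polynomial in
/-- `θ` extended to `B[t]` with `θ t = 1`. -/
noncomputable def extend (θ : Derivation A B B) : Derivation A B[X] B[X] :=
  (PolynomialModule.equivPolynomialSelf.compDer θ.mapCoeffs) + Polynomial.derivative'.restrictScalars A

open Polynomial in
theorem extend_C (θ : Derivation A B B) (b : B) : extend θ (C b) = C (θ b) := by
  ext n
  simp only [extend, Derivation.coe_add, Pi.add_apply, Derivation.coe_restrictScalars,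
    derivative'_apply, derivative_C, add_zero]
  simp [PolynomialModule.equivPolynomialSelf, coeff_C]

open Polynomial in
theorem extend_X_pow (θ : Derivation A B B) (m : ℕ) :
    extend θ (X ^ m) = m • (X : B[X]) ^ (m - 1) := by
  have hX : extend θ X = 1 := by
    simp [extend]
  rw [Derivation.leibniz_pow, hX]
  simp

open Polynomial in
theorem iterate_extend_X_pow (θ : Derivation A B B) (m i : ℕ) :
    (⇑(extend θ))^[i] (X ^ m) = m.descFactorial i • (X : B[X]) ^ (m - i) := by
  induction i with
  | zero => simp
  | succ i ih =>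
    rw [Function.iterate_succ_apply', ih, map_nsmul, extend_X_pow, smul_smul, Nat.descFactorial_succ, mul_comm,
      Nat.sub_sub]

open Polynomial in
theorem coef_prime_eq_zero (p : ℕ) [Fact p.Prime] [CharP B p] (θ : Derivation A B B) (f : B)
    (m : ℕ) (h2 : 2 ≤ m) (hm : m < p) : coef θ f p m = 0 := by
  let T : B[X] →+ B[X] := (extend θ).toLinearMap.toAddMonoidHom
  have hT : ∀ (b : B) (x : B[X]), T (b • x) = b • T x + θ b • x := by
    intro b x
    simp only [T, LinearMap.toAddMonoidHom_coe, Derivation.coeFn_coe, smul_eq_C_mul, Derivation.leibniz,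
      extend_C, smul_eq_mul]
    ring
  let D : B[X] →+ B[X] := (C f • extend θ).toLinearMap.toAddMonoidHom
  have hD : ∀ a b, D (a * b) = a * D b + D a * b := fun a b => by
    simp only [D, LinearMap.toAddMonoidHom_coe, Derivation.coeFn_coe, Derivation.leibniz, smul_eq_mul]
    ring
  let δ : Derivation A B[X] B[X] := iterPow p (C f • extend θ)
  have hδ : ∀ m : ℕ, δ (X ^ m) = ∑ i ∈ range (p + 1), C (coef θ f p i) * (m.descFactorial i • X ^ (m - i)) := by
    intro m
    rw [iterPow_apply]
    have := iterate_smul_eq_sum θ f T hT p ((X : B[X]) ^ m)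
    simp only [smul_eq_C_mul] at this
    rw [Finset.sum_congr rfl fun i _ => by rw [← iterate_extend_X_pow θ m i]]
    exact this
  have h1 : δ X = C (coef θ f p 1) := by
    have := hδ 1
    rw [pow_one] at this
    rw [this, Finset.sum_eq_single 1]
    · simp
    · intro i _ hi
      rcases i with _ | _ | i
      · have : 0 < p := (Fact.out : p.Prime).pos
        obtain ⟨q, rfl⟩ : ∃ q, p = q + 1 := ⟨p - 1, by omega⟩
        simp [coef_succ_zero]
      · exact absurd rfl hi
      · simp
    · intro h
      simp [(Fact.out : p.Prime).pos] at h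
  have h := congrArg (fun q : B[X] => q.coeff 0) ((hδ m).symm.trans (δ.leibniz_pow (a := X) m))
  rw [h1] at h
  simp only [finsetSum_coeff, smul_eq_mul] at h
  rw [Finset.sum_eq_single m] at h
  · rw [Nat.descFactorial_self, Nat.sub_self, pow_zero] at h
    obtain ⟨q, rfl⟩ : ∃ q, m = q + 2 := ⟨m - 2, by omega⟩
    simp [pow_succ] at h
    have hu : IsUnit (((q + 2).factorial : ℕ) : B) := by
      rw [CharP.isUnit_natCast_iff (Fact.out : p.Prime)]
      exact fun hd => by
        have := ((Fact.out : p.Prime).dvd_factorial).1 hd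
        omega
    exact (hu.mul_left_eq_zero).1 h
  · intro i _ hi
    rcases lt_or_gt_of_ne hi with h' | h'
    · simp [coeff_X_pow, show (0 : ℕ) ≠ m - i by omega]
    · simp [Nat.descFactorial_eq_zero_iff_lt.2 h']
  · intro h
    simp at h
    omega

/-- Hochschild's formula, weak form. -/
theorem pth_iterate_smul {M : Type w} [AddCommGroup M] [Module B M] (p : ℕ) [Fact p.Prime] [CharP B p]
    (θ : Derivation A B B) (f : B) (T : M →+ M) (hT : ∀ (b : B) (x : M), T (b • x) = b • T x + θ b • x)
    (x : M) : (fun y => f • T y)^[p] x = coef θ f p 1 • T x + f ^ p • (⇑T)^[p] x := by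
  have hp : p.Prime := Fact.out
  rw [iterate_smul_eq_sum θ f T hT, Finset.sum_range_succ, coef_self, Finset.sum_eq_single 1]
  · simp
  · intro i hi hne
    simp only [Finset.mem_range] at hi
    rcases i with _ | _ | i
    · obtain ⟨q, rfl⟩ : ∃ q, p = q + 1 := ⟨p - 1, by have := hp.pos; omega⟩
      simp [coef_succ_zero]
    · exact absurd rfl hne
    · rw [coef_prime_eq_zero p θ f (i + 2) (by omega) hi, zero_smul]
  · intro h
    simp [hp.one_lt] at h

end Hochschild

end Groth.Agent.H44Deriv
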